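import Groth.Agent.NormalLocus.Separable
import Groth.Agent.PurelyInsepRed.Basic

/-!
# Generic normality of finite type domains from that of finite domains
-/

universe u

namespace Groth.Agent.NormalLocus

open CohenStruct TensorProduct

/-- A domain with open normal locus is normal on a nonempty basic open set. -/
theorem exists_normal_nbhd_of_isOpen {A : Type u} [CommRing A] [IsDomain A]
    (h : IsOpen (EGA4.norLocus A)) :
    ∃ f : A, f ≠ 0 ∧ ∀ p : PrimeSpectrum A, f ∉ p.asIdeal → p ∈ EGA4.norLocus A := by
  obtain ⟨_, ⟨f, rfl⟩, hf0, hfU⟩ := PrimeSpectrum.isTopologicalBasis_basic_opens.exists_subset_of_mem_open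
    (show (⟨⊥, Ideal.isPrime_bot⟩ : PrimeSpectrum A) ∈ EGA4.norLocus A from
      (mem_norLocus_iff_normalAt (FractionRing A) _).mpr fun z _ => by
        obtain ⟨a, b, hb, rfl⟩ := IsFractionRing.div_surjective (A := A) z
        refine ⟨b, fun hb0 => nonZeroDivisors.ne_zero hb (Ideal.mem_bot.mp hb0),
          Submodule.mem_one.mpr ⟨a, ?_⟩⟩
        rw [Algebra.smul_def,
          mul_div_cancel₀ _ (IsFractionRing.to_map_ne_zero_of_mem_nonZeroDivisors hb)])
    h
  exact ⟨f, fun h0 => hf0 (by simp [h0]), fun p hp => hfU hp⟩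

/-- On `D(F)` normal, elements integral over the ring are killed into it by a power of `F`. -/
theorem exists_pow_smul_mem {B K : Type u} [CommRing B] [IsDomain B] [Field K] [Algebra B K]
    [IsFractionRing B K] {F : B} (hF : ∀ p : PrimeSpectrum B, F ∉ p.asIdeal → p ∈ EGA4.norLocus B)
    {z : K} (hz : IsIntegral B z) : ∃ (k : ℕ) (b : B), algebraMap B K (F ^ k) * z = algebraMap B K b := by
  let D : Ideal B := (1 : Submodule B K).comap (LinearMap.toSpanSingleton B K z)
  have hrad : F ∈ D.radical := by
    rw [Ideal.radical_eq_sInf, Ideal.mem_sInf]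
    rintro Q ⟨hDQ, hQ⟩
    by_contra hFQ
    obtain ⟨t, ht, htz⟩ := (mem_norLocus_iff_normalAt K ⟨Q, hQ⟩).mp (hF ⟨Q, hQ⟩ hFQ) z hz
    exact ht (hDQ (by simpa [D] using htz))
  obtain ⟨k, hk⟩ := hrad
  obtain ⟨b, hb⟩ := Submodule.mem_one.mp (show F ^ k • z ∈ (1 : Submodule B K) by simpa [D] using hk)
  exact ⟨k, b, by rw [hb, Algebra.smul_def]⟩

theorem isGeometricallyReduced_fractionField {k T : Type u} [Field k] [CommRing T] [IsDomain T]
    [Algebra k T] [Algebra.IsGeometricallyReduced k T] (L : Type u) [Field L] [Algebra k L]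
    [Algebra T L] [IsScalarTower k T L] [IsFractionRing T L] :
    Algebra.IsGeometricallyReduced k L := by
  rw [Algebra.isGeometricallyReduced_field_iff]
  let C := AlgebraicClosure k
  let j : C ⊗[k] T →ₐ[C] C ⊗[k] L :=
    Algebra.TensorProduct.map (AlgHom.id C C) (IsScalarTower.toAlgHom k T L)
  have hj : Function.Injective j :=
    Module.Flat.lTensor_preserves_injective_linearMap (M := C)
      (IsScalarTower.toAlgHom k T L).toLinearMap (IsFractionRing.injective T L)
  have hclear : ∀ z : C ⊗[k] L, ∃ (s : T) (w : C ⊗[k] T), s ≠ 0 ∧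
      ((1 : C) ⊗ₜ[k] algebraMap T L s) * z = j w := by
    intro z
    induction z using TensorProduct.induction_on with
    | zero => exact ⟨1, 0, one_ne_zero, by simp⟩
    | tmul c l =>
      obtain ⟨a, b, hb, rfl⟩ := IsFractionRing.div_surjective (A := T) l
      refine ⟨b, c ⊗ₜ a, nonZeroDivisors.ne_zero hb, ?_⟩
      rw [Algebra.TensorProduct.tmul_mul_tmul, one_mul,
        mul_div_cancel₀ _ (IsFractionRing.to_map_ne_zero_of_mem_nonZeroDivisors hb)]
      rfl
    | add x y hx hy =>
      obtain ⟨s, w, hs, hw⟩ := hx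
      obtain ⟨s', w', hs', hw'⟩ := hy
      refine ⟨s * s', (1 ⊗ₜ s') * w + (1 ⊗ₜ s) * w', mul_ne_zero hs hs', ?_⟩
      rw [map_add, map_mul j, map_mul j, ← hw, ← hw', map_mul,
        show j (1 ⊗ₜ[k] s) = 1 ⊗ₜ[k] algebraMap T L s from rfl,
        show j (1 ⊗ₜ[k] s') = 1 ⊗ₜ[k] algebraMap T L s' from rfl,
        ← one_mul (1 : C), ← Algebra.TensorProduct.tmul_mul_tmul, one_mul]
      ring
  refine ⟨fun z hz => ?_⟩
  obtain ⟨s, w, hs, hw⟩ := hclear z
  have hw0 : w = 0 := by
    have h1 : IsNilpotent (j w) := hw ▸ (Commute.all _ z).isNilpotent_mul_left hz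
    exact ((IsNilpotent.map_iff hj).mp h1).eq_zero
  rw [hw0, map_zero] at hw
  have hu : IsUnit ((1 : C) ⊗ₜ[k] algebraMap T L s) :=
    ((map_ne_zero_iff _ (IsFractionRing.injective T L)).mpr hs).isUnit.map
      (Algebra.TensorProduct.includeRight : L →ₐ[k] C ⊗[k] L)
  exact hu.mul_right_eq_zero.mp hw

/-- If the finite domains over `B` have open normal loci, every finite type domain over `B` is
generically normal. -/
theorem exists_normal_nbhd_of_finite_domains {B S : Type u} [CommRing B] [IsDomain B]
    [IsNoetherianRing B] [CommRing S] [IsDomain S] [Algebra B S] [Algebra.FiniteType B S]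
    (hinj : Function.Injective (algebraMap B S))
    (h : ∀ (B' : Type u) [CommRing B'] [IsDomain B'] [Algebra B B'], Module.Finite B B' →
      IsOpen (EGA4.norLocus B')) :
    ∃ F : S, F ≠ 0 ∧ ∀ p : PrimeSpectrum S, F ∉ p.asIdeal → p ∈ EGA4.norLocus S := by
  classical
  let K := FractionRing B
  let L := FractionRing S
  have : FaithfulSMul B S := (faithfulSMul_iff_algebraMap_injective B S).mpr hinj
  let : Algebra K L := FractionRing.liftAlgebra B L
  have : IsScalarTower B K L := FractionRing.isScalarTower_liftAlgebra B L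
  -- the generic fibre
  obtain ⟨G, hG⟩ := (Algebra.FiniteType.out : (⊤ : Subalgebra B S).FG)
  let T : Subalgebra K L := Algebra.adjoin K ((G.image (algebraMap S L) : Finset L) : Set L)
  have : Algebra.FiniteType K T := ⟨T.fg_top.mpr (Subalgebra.fg_adjoin_finset _)⟩
  have hST : ∀ s : S, algebraMap S L s ∈ T := by
    intro s
    have hs : s ∈ Algebra.adjoin B (G : Set S) := hG ▸ Algebra.mem_top
    induction hs using Algebra.adjoin_induction with
    | mem y hy => exact Algebra.subset_adjoin (Finset.mem_coe.mpr (Finset.mem_image_of_mem _ hy))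
    | algebraMap r =>
      rw [← IsScalarTower.algebraMap_apply B S L, IsScalarTower.algebraMap_apply B K L]
      exact T.algebraMap_mem _
    | add a b _ _ ha hb => rw [map_add]; exact add_mem ha hb
    | mul a b _ _ ha hb => rw [map_mul]; exact mul_mem ha hb
  -- make it geometrically reduced
  obtain ⟨k', _, _, hfin, hpi, hgr⟩ := PurelyInsepRed.exists_isGeometricallyReduced (k := K) T
  let N := nilradical (k' ⊗[K] T)
  have : N.IsPrime := PurelyInsepRed.isPrime_nilradical k' T
  let T' := (k' ⊗[K] T) ⧸ N
  let L' := FractionRing T'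
  let eT : T →ₐ[K] T' := (Ideal.Quotient.mkₐ K N).comp Algebra.TensorProduct.includeRight
  have : IsScalarTower K k' L' := IsScalarTower.to₁₂₄ K k' T' L'
  have : Algebra.IsGeometricallyReduced k' L' := isGeometricallyReduced_fractionField (T := T') L'
  let τ : T →ₐ[K] L' := (IsScalarTower.toAlgHom K T' L').comp eT
  let σ : S →+* L' := (RingHomClass.toRingHom τ).comp
    ((algebraMap S L).codRestrict T hST)
  let : Algebra S L' := σ.toAlgebra
  let : Algebra B k' := ((algebraMap K k').comp (algebraMap B K)).toAlgebra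
  have : IsScalarTower B K k' := .of_algebraMap_eq fun _ => rfl
  have : IsScalarTower B K L' := .of_algebraMap_eq fun _ => rfl
  have : IsScalarTower B k' L' := .of_algebraMap_eq fun b => by
    rw [IsScalarTower.algebraMap_apply B K k', ← IsScalarTower.algebraMap_apply K k' L']; rfl
  have hBS : ∀ b : B, σ (algebraMap B S b) = algebraMap B L' b := fun b => by
    change τ ⟨algebraMap S L (algebraMap B S b), hST _⟩ = algebraMap K L' (algebraMap B K b)
    rw [← τ.commutes]
    congr 1
    refine Subtype.ext ?_
    change algebraMap S L (algebraMap B S b) = algebraMap K L (algebraMap B K b)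
    rw [← IsScalarTower.algebraMap_apply B S L, ← IsScalarTower.algebraMap_apply B K L]
  have : IsScalarTower B S L' := .of_algebraMap_eq fun b => (hBS b).symm
  have heTinj : Function.Injective eT := by
    refine (injective_iff_map_eq_zero eT).mpr fun x hx => ?_
    have h1 : IsNilpotent ((Algebra.TensorProduct.includeRight : T →ₐ[K] k' ⊗[K] T) x) :=
      mem_nilradical.mp (Ideal.Quotient.eq_zero_iff_mem.mp hx)
    exact ((IsNilpotent.map_iff (Algebra.TensorProduct.includeRight_injective
      (algebraMap K k').injective)).mp h1).eq_zero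
  have hσ : Function.Injective (algebraMap S L') := fun a b hab =>
    IsFractionRing.injective S L (congrArg Subtype.val (heTinj (IsFractionRing.injective T' L' hab)))
  -- the finite domain `B'`
  let bas := Module.finBasis K k'
  have hint : ∀ i, ∃ c : B, c ≠ 0 ∧ IsIntegral B (c • bas i) := fun i => by
    have : Algebra.IsAlgebraic B k' :=
      (IsFractionRing.comap_isAlgebraic_iff (A := B) (K := K)).mpr (Algebra.IsAlgebraic.of_finite K k')
    exact (Algebra.IsAlgebraic.isAlgebraic (R := B) (bas i)).exists_integral_multiple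
  choose c hc0 hc using hint
  let B' : Subalgebra B k' := Algebra.adjoin B ((Finset.univ.image fun i => c i • bas i : Finset k') : Set k')
  have : Module.Finite B B' := Module.Finite.iff_fg.mpr (fg_adjoin_of_finite
    (Finset.finite_toSet _) fun x hx => by
      obtain ⟨i, -, rfl⟩ := Finset.mem_image.mp (Finset.mem_coe.mp hx); exact hc i)
  have hBinj : ∀ {b : B}, b ≠ 0 → algebraMap B k' b ≠ 0 := fun {b} hb => by
    rw [IsScalarTower.algebraMap_apply B K k']
    exact (map_ne_zero_iff _ (algebraMap K k').injective).mpr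
      ((map_ne_zero_iff _ (IsFractionRing.injective B K)).mpr hb)
  have hk' : ∀ z : k', ∃ b : B, b ≠ 0 ∧ b • z ∈ B' := by
    intro z
    have hz : z ∈ Submodule.span K (Set.range bas) := bas.span_eq ▸ Submodule.mem_top
    induction hz using Submodule.span_induction with
    | mem x hx =>
      obtain ⟨i, rfl⟩ := hx
      exact ⟨c i, hc0 i, Algebra.subset_adjoin (by simp)⟩
    | zero => exact ⟨1, one_ne_zero, by simp⟩
    | add x y _ _ hx hy =>
      obtain ⟨b, hb, hbx⟩ := hx
      obtain ⟨b', hb', hby⟩ := hy
      refine ⟨b * b', mul_ne_zero hb hb', ?_⟩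
      rw [smul_add]
      refine add_mem ?_ ?_
      · rw [mul_comm, mul_smul]; exact B'.smul_mem hbx b'
      · rw [mul_smul]; exact B'.smul_mem hby b
    | smul a x _ hx =>
      obtain ⟨b, hb, hbx⟩ := hx
      obtain ⟨u, v, hv, rfl⟩ := IsFractionRing.div_surjective (A := B) a
      refine ⟨v * b, mul_ne_zero (nonZeroDivisors.ne_zero hv) hb, ?_⟩
      have : (v * b) • (algebraMap B K u / algebraMap B K v) • x = u • b • x := by
        simp only [Algebra.smul_def, map_mul, map_div₀, IsScalarTower.algebraMap_apply B K k']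
        have hv0 := hBinj (nonZeroDivisors.ne_zero hv)
        rw [IsScalarTower.algebraMap_apply B K k'] at hv0
        field_simp
      rw [this]
      exact B'.smul_mem hbx u
  have : IsFractionRing B' k' := by
    refine IsFractionRing.of_field B' k' fun z => ?_
    obtain ⟨b, hb, hbz⟩ := hk' z
    exact ⟨⟨b • z, hbz⟩, algebraMap B B' b, by
      rw [← IsScalarTower.algebraMap_apply B B' k']
      change z = b • z / _
      rw [Algebra.smul_def, mul_div_cancel_left₀ _ (hBinj hb)]⟩
  have : IsNoetherianRing B' := isNoetherianRing_of_fg (Subalgebra.fg_adjoin_finset _)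
  -- `S'`, finite over `S`
  let g : Finset L' := Finset.univ.image fun i => algebraMap k' L' (c i • bas i)
  let S' : Subalgebra S L' := Algebra.adjoin S (g : Set L')
  have : Module.Finite S S' := Module.Finite.iff_fg.mpr (fg_adjoin_of_finite
    (Finset.finite_toSet _) fun x hx => by
      obtain ⟨i, -, rfl⟩ := Finset.mem_image.mp (Finset.mem_coe.mp hx)
      exact ((hc i).map (IsScalarTower.toAlgHom B k' L')).tower_top)
  have hB'S' : ∀ x : B', algebraMap k' L' x ∈ S' := by
    rintro ⟨x, hx⟩
    induction hx using Algebra.adjoin_induction with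
    | mem y hy =>
      obtain ⟨i, -, rfl⟩ := Finset.mem_image.mp (Finset.mem_coe.mp hy)
      exact Algebra.subset_adjoin (by simp [g])
    | algebraMap r =>
      rw [← IsScalarTower.algebraMap_apply B k' L', IsScalarTower.algebraMap_apply B S L']
      exact S'.algebraMap_mem _
    | add a b _ _ ha hb => rw [map_add]; exact add_mem ha hb
    | mul a b _ _ ha hb => rw [map_mul]; exact mul_mem ha hb
  let ρ : B' →+* S' := ((algebraMap k' L').comp B'.val.toRingHom).codRestrict S'.toSubring hB'S'
  let : Algebra B' S' := ρ.toAlgebra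
  have : IsScalarTower B' S' L' := .of_algebraMap_eq fun _ => rfl
  have : IsScalarTower B' k' L' := .of_algebraMap_eq fun _ => rfl
  have : IsScalarTower B B' S' := .of_algebraMap_eq fun b => Subtype.ext (by
    change algebraMap B L' b = algebraMap k' L' (algebraMap B k' b)
    rw [← IsScalarTower.algebraMap_apply])
  have : Algebra.FiniteType B S' := Algebra.FiniteType.trans (S := S) ‹_› inferInstance
  have : Algebra.FiniteType B' S' := Algebra.FiniteType.of_restrictScalars_finiteType B B' S'
  let j : T' →ₐ[K] L' := IsScalarTower.toAlgHom K T' L'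
  have hT' : ∀ y : T', ∃ b : B, b ≠ 0 ∧ b • j y ∈ S' := by
    intro y
    obtain ⟨y, rfl⟩ := Ideal.Quotient.mk_surjective y
    induction y using TensorProduct.induction_on with
    | zero => exact ⟨1, one_ne_zero, by simp⟩
    | add x y hx hy =>
      obtain ⟨b, hb, hbx⟩ := hx
      obtain ⟨b', hb', hby⟩ := hy
      refine ⟨b * b', mul_ne_zero hb hb', ?_⟩
      rw [map_add, map_add, smul_add]
      refine add_mem ?_ ?_
      · rw [mul_comm, mul_smul, ← IsScalarTower.algebraMap_smul S b']; exact S'.smul_mem hbx _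
      · rw [mul_smul, ← IsScalarTower.algebraMap_smul S b]; exact S'.smul_mem hby _
    | tmul z t =>
      obtain ⟨b, hb, hbz⟩ := hk' z
      obtain ⟨t, ht⟩ := t
      have ht' : ∃ b : B, b ≠ 0 ∧ ∃ s : S, b • t = algebraMap S L s := by
        induction ht using Algebra.adjoin_induction with
        | mem x hx =>
          obtain ⟨s, -, rfl⟩ := Finset.mem_image.mp (Finset.mem_coe.mp hx)
          exact ⟨1, one_ne_zero, s, one_smul _ _⟩
        | algebraMap a =>
          obtain ⟨u, v, hv, rfl⟩ := IsFractionRing.div_surjective (A := B) a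
          refine ⟨v, nonZeroDivisors.ne_zero hv, algebraMap B S u, ?_⟩
          rw [Algebra.smul_def, IsScalarTower.algebraMap_apply B K L, ← map_mul,
            mul_div_cancel₀ _ (IsFractionRing.to_map_ne_zero_of_mem_nonZeroDivisors hv),
            ← IsScalarTower.algebraMap_apply, ← IsScalarTower.algebraMap_apply]
        | add x y _ _ hx hy =>
          obtain ⟨b, hb, s, hs⟩ := hx
          obtain ⟨b', hb', s', hs'⟩ := hy
          refine ⟨b * b', mul_ne_zero hb hb', b' • s + b • s', ?_⟩
          simp only [Algebra.smul_def, map_add, map_mul, ← IsScalarTower.algebraMap_apply] at hs hs' ⊢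
          rw [← hs, ← hs']; ring
        | mul x y _ _ hx hy =>
          obtain ⟨b, hb, s, hs⟩ := hx
          obtain ⟨b', hb', s', hs'⟩ := hy
          refine ⟨b * b', mul_ne_zero hb hb', s * s', ?_⟩
          simp only [Algebra.smul_def, map_mul] at hs hs' ⊢
          rw [← hs, ← hs']; ring
      obtain ⟨b', hb', s, hs⟩ := ht'
      refine ⟨b * b', mul_ne_zero hb hb', ?_⟩
      have : (b * b') • j (Ideal.Quotient.mk N (z ⊗ₜ ⟨t, ht⟩)) =
          algebraMap k' L' (b • z) * algebraMap S L' s := by
        have h1 : Ideal.Quotient.mk N (z ⊗ₜ ⟨t, ht⟩) = algebraMap k' T' z * eT ⟨t, ht⟩ := by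
          change _ = Ideal.Quotient.mk N (z ⊗ₜ 1) * Ideal.Quotient.mk N (1 ⊗ₜ _)
          rw [← map_mul, Algebra.TensorProduct.tmul_mul_tmul, mul_one, one_mul]
        have h2 : algebraMap S L' s = algebraMap B L' b' * τ ⟨t, ht⟩ := by
          change τ ⟨algebraMap S L s, hST s⟩ = _ * τ ⟨t, ht⟩
          rw [IsScalarTower.algebraMap_apply B K L', ← τ.commutes, ← map_mul]
          congr 1
          refine Subtype.ext ?_
          change algebraMap S L s = algebraMap K L (algebraMap B K b') * t
          rw [← hs, Algebra.smul_def, ← IsScalarTower.algebraMap_apply]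
        rw [h2, h1, map_mul,
          show j (algebraMap k' T' z) = algebraMap k' L' z from
            (IsScalarTower.algebraMap_apply k' T' L' z).symm,
          show τ ⟨t, ht⟩ = j (eT ⟨t, ht⟩) from rfl, Algebra.smul_def,
          Algebra.smul_def, map_mul, map_mul, ← IsScalarTower.algebraMap_apply]
        ring
      rw [this]
      exact mul_mem (hB'S' ⟨_, hbz⟩) (S'.algebraMap_mem s)
  have hBL : ∀ {b : B}, b ≠ 0 → algebraMap B L' b ≠ 0 := fun {b} hb => by
    rw [IsScalarTower.algebraMap_apply B k' L']
    exact (map_ne_zero_iff _ (algebraMap k' L').injective).mpr (hBinj hb)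
  have : IsFractionRing S' L' := by
    refine IsFractionRing.of_field S' L' fun z => ?_
    obtain ⟨x, y, hy, rfl⟩ := IsFractionRing.div_surjective (A := T') z
    obtain ⟨b, hb, hbx⟩ := hT' x
    obtain ⟨b', hb', hby⟩ := hT' y
    have h1 : b' • b • j x ∈ S' := by
      rw [← IsScalarTower.algebraMap_smul S b']; exact S'.smul_mem hbx _
    have h2 : b • b' • j y ∈ S' := by
      rw [← IsScalarTower.algebraMap_smul S b]; exact S'.smul_mem hby _
    refine ⟨⟨_, h1⟩, ⟨_, h2⟩, ?_⟩
    change _ = (b' • b • j x) / (b • b' • j y)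
    simp only [Algebra.smul_def, ← mul_assoc]
    rw [mul_comm (algebraMap B L' b') (algebraMap B L' b),
      mul_div_mul_left _ _ (mul_ne_zero (hBL hb) (hBL hb'))]
    rfl
  -- generic normality of `S'`
  obtain ⟨f, hf0, hf⟩ := exists_normal_nbhd_of_isOpen (h B' inferInstance)
  obtain ⟨F, hF0, hF⟩ := exists_normal_nbhd_of_separable (A := B') (A' := S') k' L' f hf0 hf
  -- descent to `S`
  have hι : Function.Injective (algebraMap S S') := fun a b hab => hσ (congrArg Subtype.val hab)
  obtain ⟨s₀, hs₀, y, hy⟩ : ∃ s₀ : S, s₀ ≠ 0 ∧ ∃ y : S', algebraMap S S' s₀ = F * y := by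
    have hne : (Ideal.span {F}).comap (algebraMap S S') ≠ ⊥ :=
      Ideal.comap_ne_bot_of_integral_mem hF0 (Ideal.mem_span_singleton_self F)
        (Algebra.IsIntegral.isIntegral F)
    obtain ⟨s₀, hs, hs0⟩ := Submodule.exists_mem_ne_zero_of_ne_bot hne
    obtain ⟨y, hy⟩ := Ideal.mem_span_singleton'.mp (Ideal.mem_comap.mp hs)
    exact ⟨s₀, hs0, y, by rw [← hy, mul_comm]⟩
  let ψ : L →ₐ[S] L' := IsFractionRing.liftAlgHom (K := L) (g := Algebra.ofId S L') hσ
  let M : Submodule S L := (Subalgebra.toSubmodule S').comap ψ.toLinearMap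
  have : IsNoetherianRing S := Algebra.FiniteType.isNoetherianRing B S
  have hM : M.FG := by
    have hψ : Function.Injective ψ := ψ.toRingHom.injective
    let e : M →ₗ[S] S' := (ψ.toLinearMap.comp M.subtype).codRestrict (Subalgebra.toSubmodule S') fun x => x.2
    have he : Function.Injective e := fun a b hab => Subtype.ext (hψ (congrArg Subtype.val hab))
    have := isNoetherian_of_injective e he
    exact Module.Finite.iff_fg.mp inferInstance
  obtain ⟨GM, hGM⟩ := hM
  obtain ⟨d, hd⟩ := IsLocalization.exist_integer_multiples (nonZeroDivisors S) GM id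
  refine ⟨d * s₀, mul_ne_zero (nonZeroDivisors.coe_ne_zero d) hs₀, fun p hp => ?_⟩
  refine (mem_norLocus_iff_normalAt L p).mpr fun z hz => ?_
  obtain ⟨k, w, hw⟩ := exists_pow_smul_mem hF (B := S') (K := L') ((hz.map ψ).tower_top)
  have hzM : s₀ ^ k • z ∈ M := by
    change ψ (s₀ ^ k • z) ∈ S'
    rw [map_smul, Algebra.smul_def, IsScalarTower.algebraMap_apply S S' L', map_pow, hy, mul_pow,
      map_mul, mul_right_comm, hw, ← map_mul]
    exact (w * y ^ k).2
  have hdM : (d : S) • (s₀ ^ k • z) ∈ (1 : Submodule S L) := by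
    rw [← hGM] at hzM
    generalize s₀ ^ k • z = w' at hzM ⊢
    induction hzM using Submodule.span_induction with
    | mem x hx =>
      obtain ⟨a, ha⟩ := hd x hx
      exact Submodule.mem_one.mpr ⟨a, ha⟩
    | zero => simp
    | add a b _ _ ha hb => rw [smul_add]; exact add_mem ha hb
    | smul r a _ ha => rw [smul_comm]; exact Submodule.smul_mem _ r ha
  refine ⟨d * s₀ ^ k, fun hm => ?_, by rwa [mul_smul]⟩
  exact (p.2.mem_or_mem hm).elim (fun h' => hp (Ideal.mul_mem_right _ _ h'))
    fun h' => hp (Ideal.mul_mem_left _ _ (p.2.mem_of_pow_mem k h'))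

end Groth.Agent.NormalLocus
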