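import Mathlib
import Groth.Prelude.Def_EGA4b
import Groth.Agent.CohenStruct.Local
import Groth.Agent.CohenStruct.Criterion

/-!
# The normal locus

`isOpen_norLocus_of_generic`: the normal locus of a Noetherian ring is open as soon as every
normal minimal prime has a neighbourhood inside the normal locus.
-/

universe u

namespace Groth.Agent.NormalLocus

open CohenStruct

theorem isDomain_localization_of_isDomain {R : Type u} [CommRing R] [IsDomain R] (p : Ideal R)
    [p.IsPrime] : IsDomain (Localization.AtPrime p) :=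
  IsLocalization.isDomain_localization p.primeCompl_le_nonZeroDivisors

/-- Membership in the normal locus of a domain, inside the fraction field. -/
theorem mem_norLocus_iff_normalAt {B : Type u} [CommRing B] [IsDomain B] (K : Type u) [Field K]
    [Algebra B K] [IsFractionRing B K] (p : PrimeSpectrum B) :
    p ∈ EGA4.norLocus B ↔ NormalAt B K p.asIdeal := by
  have := isDomain_localization_of_isDomain p.asIdeal
  have h := isIntegrallyClosed_localization_iff p.asIdeal.primeCompl
    p.asIdeal.primeCompl_le_nonZeroDivisors (Localization.AtPrime p.asIdeal) K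
  exact ⟨fun hp => h.mp hp.2, fun hp => ⟨this, h.mpr hp⟩⟩

/-- Above a prime `q` killed by some `g ∉ p`, the local ring is a local ring of `A ⧸ q`. -/
theorem isLocalization_quotient {A : Type u} [CommRing A] (q : Ideal A) [q.IsPrime] {g : A}
    (hgq : ∀ x ∈ q, g * x = 0) (p : Ideal A) [p.IsPrime] (hgp : g ∉ p)
    (p' : Ideal (A ⧸ q)) [p'.IsPrime] (hp' : p'.comap (Ideal.Quotient.mk q) = p) :
    ∃ (_ : Algebra (A ⧸ q) (Localization.AtPrime p)),
      IsLocalization p'.primeCompl (Localization.AtPrime p) := by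
  have hu : IsUnit (algebraMap A (Localization.AtPrime p) g) :=
    IsLocalization.map_units (Localization.AtPrime p) (⟨g, hgp⟩ : p.primeCompl)
  have hq0 : ∀ x ∈ q, algebraMap A (Localization.AtPrime p) x = 0 := fun x hx => by
    refine hu.mul_right_eq_zero.mp ?_
    rw [← map_mul, hgq x hx, map_zero]
  let : Algebra (A ⧸ q) (Localization.AtPrime p) :=
    (Ideal.Quotient.lift q (algebraMap A _) hq0).toAlgebra
  have hmem : ∀ x, Ideal.Quotient.mk q x ∈ p' ↔ x ∈ p := fun x => by rw [← hp']; rfl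
  refine ⟨this, (isLocalization_iff _ _).mpr ⟨?_, ?_, ?_⟩⟩
  · rintro ⟨y, hy⟩
    obtain ⟨y, rfl⟩ := Ideal.Quotient.mk_surjective y
    exact IsLocalization.map_units (Localization.AtPrime p)
      (⟨y, fun h => hy ((hmem y).mpr h)⟩ : p.primeCompl)
  · intro z
    obtain ⟨⟨a, s⟩, ha⟩ := IsLocalization.surj p.primeCompl z
    exact ⟨(Ideal.Quotient.mk q a, ⟨Ideal.Quotient.mk q s, fun h => s.2 ((hmem _).mp h)⟩), ha⟩
  · intro x y hxy
    obtain ⟨x, rfl⟩ := Ideal.Quotient.mk_surjective x
    obtain ⟨y, rfl⟩ := Ideal.Quotient.mk_surjective y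
    obtain ⟨c, hc⟩ := (IsLocalization.eq_iff_exists p.primeCompl (Localization.AtPrime p)).mp hxy
    exact ⟨⟨Ideal.Quotient.mk q c, fun h => c.2 ((hmem _).mp h)⟩, by
      rw [← map_mul, ← map_mul]; exact congrArg _ hc⟩

theorem mem_norLocus_quotient {A : Type u} [CommRing A] (q : Ideal A) [q.IsPrime] {g : A}
    (hgq : ∀ x ∈ q, g * x = 0) (p : PrimeSpectrum A) (hgp : g ∉ p.asIdeal) :
    ∃ p' : PrimeSpectrum (A ⧸ q), p'.asIdeal.comap (Ideal.Quotient.mk q) = p.asIdeal ∧
      (p ∈ EGA4.norLocus A ↔ p' ∈ EGA4.norLocus (A ⧸ q)) := by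
  have hqp : q ≤ p.asIdeal := fun x hx => by
    refine (p.2.mem_or_mem ?_).resolve_left hgp
    rw [hgq x hx]; exact zero_mem _
  have hker : RingHom.ker (Ideal.Quotient.mk q) ≤ p.asIdeal := by rwa [Ideal.mk_ker]
  let p' : PrimeSpectrum (A ⧸ q) :=
    ⟨p.asIdeal.map (Ideal.Quotient.mk q),
      Ideal.map_isPrime_of_surjective Ideal.Quotient.mk_surjective hker⟩
  have hp' : p'.asIdeal.comap (Ideal.Quotient.mk q) = p.asIdeal := by
    rw [Ideal.comap_map_of_surjective' _ Ideal.Quotient.mk_surjective, sup_eq_left]; exact hker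
  have : p'.asIdeal.IsPrime := p'.2
  obtain ⟨alg, hloc⟩ := isLocalization_quotient q hgq p.asIdeal hgp p'.asIdeal hp'
  let e : Localization.AtPrime p'.asIdeal ≃+* Localization.AtPrime p.asIdeal :=
    (IsLocalization.algEquiv p'.asIdeal.primeCompl _ _).toRingEquiv
  refine ⟨p', hp', ⟨fun ⟨h1, h2⟩ => ?_, fun ⟨h1, h2⟩ => ?_⟩⟩
  · have := h1; have := h2
    exact ⟨e.toMulEquiv.isDomain, IsIntegrallyClosed.of_equiv e.symm⟩
  · have := h1; have := h2
    exact ⟨e.symm.toMulEquiv.isDomain, IsIntegrallyClosed.of_equiv e⟩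

/-- Near a prime with domain local ring, the ring is a domain. -/
theorem exists_killed_minimalPrime {A : Type u} [CommRing A] [IsNoetherianRing A] (p : Ideal A)
    [p.IsPrime] [IsDomain (Localization.AtPrime p)] :
    ∃ (q : Ideal A) (_ : q.IsPrime), q ∈ minimalPrimes A ∧ q ≤ p ∧
      ∃ g, g ∉ p ∧ ∀ x ∈ q, g * x = 0 := by
  classical
  let q : Ideal A := RingHom.ker (algebraMap A (Localization.AtPrime p))
  have hqp : q.IsPrime := RingHom.ker_isPrime _
  have hkill : ∀ x ∈ q, ∃ s, s ∉ p ∧ s * x = 0 := fun x hx => by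
    obtain ⟨⟨s, hs⟩, h⟩ := (IsLocalization.map_eq_zero_iff p.primeCompl _ x).mp hx
    exact ⟨s, hs, h⟩
  have hle : q ≤ p := fun x hx => by
    obtain ⟨s, hs, h⟩ := hkill x hx
    exact (‹p.IsPrime›.mem_or_mem (h ▸ zero_mem p)).resolve_left hs
  obtain ⟨G, hG⟩ := (IsNoetherian.noetherian q : q.FG)
  choose! s hs hsx using fun x (hx : x ∈ G) => hkill x (hG ▸ Submodule.subset_span hx)
  refine ⟨q, hqp, ⟨⟨hqp, bot_le⟩, fun Q hQ hQq => fun x hx => ?_⟩, hle, ∏ x ∈ G, s x, ?_, ?_⟩
  · obtain ⟨t, ht, h⟩ := hkill x hx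
    exact (hQ.1.mem_or_mem (h ▸ zero_mem Q)).resolve_left fun htQ => ht (hle (hQq htQ))
  · intro h
    obtain ⟨x, hx, hxp⟩ := (Ideal.IsPrime.prod_mem_iff).mp h
    exact hs x hx hxp
  · intro x hx
    rw [← hG] at hx
    induction hx using Submodule.span_induction with
    | mem y hy =>
      rw [← Finset.prod_erase_mul G s (Finset.mem_coe.mp hy), mul_assoc,
        hsx y (Finset.mem_coe.mp hy), mul_zero]
    | zero => simp
    | add a b _ _ ha hb => rw [mul_add, ha, hb, add_zero]
    | smul c a _ ha => rw [smul_eq_mul, mul_left_comm, ha, mul_zero]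

/-- The normal locus is stable under generization. -/
theorem mem_norLocus_of_le {A : Type u} [CommRing A] {p q : PrimeSpectrum A} (h : q ≤ p)
    (hp : p ∈ EGA4.norLocus A) : q ∈ EGA4.norLocus A := by
  obtain ⟨h1, h2⟩ := hp
  have hle : p.asIdeal.primeCompl ≤ q.asIdeal.primeCompl := fun x hx hxq => hx (h hxq)
  let : Algebra (Localization.AtPrime p.asIdeal) (Localization.AtPrime q.asIdeal) :=
    IsLocalization.localizationAlgebraOfSubmonoidLe _ _ p.asIdeal.primeCompl q.asIdeal.primeCompl hle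
  have : IsScalarTower A (Localization.AtPrime p.asIdeal) (Localization.AtPrime q.asIdeal) :=
    IsLocalization.localization_isScalarTower_of_submonoid_le _ _ _ _ hle
  have hloc := IsLocalization.isLocalization_of_submonoid_le (Localization.AtPrime p.asIdeal)
    (Localization.AtPrime q.asIdeal) p.asIdeal.primeCompl q.asIdeal.primeCompl hle
  have : IsLocalization (q.asIdeal.primeCompl.map (algebraMap A (Localization.AtPrime p.asIdeal)))
      (Localization.AtPrime q.asIdeal) := hloc
  have hM : q.asIdeal.primeCompl.map (algebraMap A (Localization.AtPrime p.asIdeal)) ≤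
      nonZeroDivisors (Localization.AtPrime p.asIdeal) := by
    rintro _ ⟨x, hx, rfl⟩
    refine mem_nonZeroDivisors_of_ne_zero fun h0 => ?_
    have h0' := congrArg (algebraMap _ (Localization.AtPrime q.asIdeal)) h0
    rw [← IsScalarTower.algebraMap_apply, map_zero] at h0'
    have hu := IsLocalization.map_units (Localization.AtPrime q.asIdeal)
      (⟨x, hx⟩ : q.asIdeal.primeCompl)
    rw [h0'] at hu
    exact not_isUnit_zero hu
  exact ⟨IsLocalization.isDomain_of_le_nonZeroDivisors (S := Localization.AtPrime q.asIdeal) hM,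
    isIntegrallyClosed_of_isLocalization _ _ hM⟩

/-- A domain with an open set of normal points has open normal locus. -/
theorem isOpen_norLocus_of_domain {B : Type u} [CommRing B] [IsDomain B] [IsNoetherianRing B]
    (f : B) (hf : f ≠ 0) (h : ∀ p : PrimeSpectrum B, f ∉ p.asIdeal → p ∈ EGA4.norLocus B) :
    IsOpen (EGA4.norLocus B) := by
  let K := FractionRing B
  have hpow : ∀ z : K, IsIntegral B z → ∃ k : ℕ, f ^ k • z ∈ (1 : Submodule B K) := by
    intro z hz
    let D : Ideal B := (1 : Submodule B K).comap (LinearMap.toSpanSingleton B K z)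
    have hrad : f ∈ D.radical := by
      rw [Ideal.radical_eq_sInf, Ideal.mem_sInf]
      rintro Q ⟨hDQ, hQ⟩
      by_contra hfQ
      obtain ⟨t, ht, htz⟩ := (mem_norLocus_iff_normalAt K ⟨Q, hQ⟩).mp (h ⟨Q, hQ⟩ hfQ) z hz
      exact ht (hDQ (by simpa [D] using htz))
    obtain ⟨k, hk⟩ := hrad
    exact ⟨k, by simpa [D] using hk⟩
  obtain ⟨J, hJ, -⟩ := exists_badIdeal (L := K) f
    ((map_ne_zero_iff _ (IsFractionRing.injective B K)).mpr hf) hpow
  have : EGA4.norLocus B = (PrimeSpectrum.zeroLocus (J : Set B))ᶜ := by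
    ext p
    rw [mem_norLocus_iff_normalAt K, hJ p.asIdeal, Set.mem_compl_iff, PrimeSpectrum.mem_zeroLocus,
      SetLike.coe_subset_coe]
  rw [this]
  exact (PrimeSpectrum.isClosed_zeroLocus _).isOpen_compl

/-- **Openness of the normal locus** from neighbourhoods of the normal minimal primes. -/
theorem isOpen_norLocus_of_generic {A : Type u} [CommRing A] [IsNoetherianRing A]
    (h : ∀ q : PrimeSpectrum A, q.asIdeal ∈ minimalPrimes A → q ∈ EGA4.norLocus A →
      ∃ U : Set (PrimeSpectrum A), IsOpen U ∧ q ∈ U ∧ U ⊆ EGA4.norLocus A) :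
    IsOpen (EGA4.norLocus A) := by
  rw [isOpen_iff_forall_mem_open]
  intro p hp
  have := hp.1
  obtain ⟨q, hq, hqmin, hqp, g, hgp, hgq⟩ := exists_killed_minimalPrime p.asIdeal
  obtain ⟨U, hU, hqU, hUn⟩ := h ⟨q, hq⟩ hqmin (mem_norLocus_of_le hqp hp)
  obtain ⟨_, ⟨f, rfl⟩, hfq, hfU⟩ :=
    PrimeSpectrum.isTopologicalBasis_basic_opens.exists_subset_of_mem_open hqU hU
  have hgq' : g ∉ q := fun hg => hgp (hqp hg)
  let mk := Ideal.Quotient.mk q
  have hf0 : mk (f * g) ≠ 0 := fun h0 =>
    (hq.mem_or_mem (Ideal.Quotient.eq_zero_iff_mem.mp h0)).elim hfq hgq'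
  have hB : IsOpen (EGA4.norLocus (A ⧸ q)) := by
    refine isOpen_norLocus_of_domain (mk (f * g)) hf0 fun P hP => ?_
    let p₀ : PrimeSpectrum A := ⟨P.asIdeal.comap mk, Ideal.IsPrime.comap _⟩
    have hfg : f * g ∉ p₀.asIdeal := hP
    have hg0 : g ∉ p₀.asIdeal := fun hg => hfg (Ideal.mul_mem_left _ f hg)
    have hf : f ∉ p₀.asIdeal := fun hf => hfg (Ideal.mul_mem_right g _ hf)
    obtain ⟨p', hp', hiff⟩ := mem_norLocus_quotient q hgq p₀ hg0
    have : p' = P := PrimeSpectrum.ext (Ideal.comap_injective_of_surjective _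
      Ideal.Quotient.mk_surjective hp')
    exact this ▸ hiff.mp (hUn (hfU hf))
  -- pull back along the closed embedding
  obtain ⟨V, hV, hVeq⟩ := (PrimeSpectrum.isClosedEmbedding_comap_of_surjective _ mk
    Ideal.Quotient.mk_surjective).isInducing.isOpen_iff.mp hB
  refine ⟨V ∩ PrimeSpectrum.basicOpen g, ?_, hV.inter (PrimeSpectrum.basicOpen g).2, ?_, hgp⟩
  · rintro x ⟨hxV, hxg⟩
    obtain ⟨x', hx', hiff⟩ := mem_norLocus_quotient q hgq x hxg
    refine hiff.mpr ?_
    rw [← hVeq, Set.mem_preimage]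
    rwa [show PrimeSpectrum.comap mk x' = x from PrimeSpectrum.ext hx']
  · obtain ⟨x', hx', hiff⟩ := mem_norLocus_quotient q hgq p hgp
    have := hiff.mp hp
    rw [← hVeq, Set.mem_preimage, show PrimeSpectrum.comap mk x' = p from PrimeSpectrum.ext hx'] at this
    exact this

end Groth.Agent.NormalLocus
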