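import Groth.Agent.NormalLocus.Basic
import Groth.Agent.AICPoint.Root
import Groth.Agent.EGA41Lib.Separable
import Mathlib

/-!
# Generic normality in separable extensions
-/

universe u

namespace Groth.Agent.NormalLocus

open CohenStruct MvPolynomial

/-- If `A_f` is a normal Noetherian domain and the fraction field of the finite type domain `A'` is a
separable extension of that of `A`, then `A'` is generically normal. -/
theorem exists_normal_nbhd_of_separable {A A' : Type u} [CommRing A] [CommRing A'] [IsDomain A]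
    [IsDomain A'] [IsNoetherianRing A] [Algebra A A'] [Algebra.FiniteType A A']
    (K K' : Type u) [Field K] [Field K'] [Algebra A K] [IsFractionRing A K] [Algebra A' K']
    [IsFractionRing A' K'] [Algebra A K'] [IsScalarTower A A' K'] [Algebra K K']
    [IsScalarTower A K K'] [Algebra.IsGeometricallyReduced K K']
    (f : A) (hf0 : f ≠ 0) (hf : ∀ p : PrimeSpectrum A, f ∉ p.asIdeal → p ∈ EGA4.norLocus A) :
    ∃ F : A', F ≠ 0 ∧ ∀ p : PrimeSpectrum A', F ∉ p.asIdeal → p ∈ EGA4.norLocus A' := by
  classical
  -- separating transcendence basis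
  have : Algebra.EssFiniteType K K' := by
    have : Algebra.EssFiniteType A' K' := Algebra.EssFiniteType.of_isLocalization K' (nonZeroDivisors A')
    have : Algebra.EssFiniteType A K' := Algebra.EssFiniteType.comp A A' K'
    exact Algebra.EssFiniteType.of_comp A K K'
  obtain ⟨s, hs, hsep⟩ : ∃ t : Finset K', IsTranscendenceBasis K ((↑) : t → K') ∧
      Algebra.IsSeparable (IntermediateField.adjoin K (t : Set K')) K' := by
    obtain _ | ⟨p, hp, hpk⟩ := CharP.exists' K
    · exact exists_isTranscendenceBasis_and_isSeparable_of_perfectField K K'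
    · have : CharP K' p := charP_of_injective_algebraMap (algebraMap K K').injective p
      exact exists_isTranscendenceBasis_and_isSeparable_of_linearIndepOn_pow_of_essFiniteType p hp.out
        fun s hs => Groth.Agent.EGA41Lib.frobLI_of_isGeometricallyReduced (p := p) _ hs
  let K₀ := IntermediateField.adjoin K (s : Set K')
  let n := s.card
  let t : Fin n → K' := fun i => (s.equivFin.symm i : K')
  have ht : AlgebraicIndependent K t := hs.1.comp _ s.equivFin.symm.injective
  have hrange : Set.range t = (s : Set K') := by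
    ext x
    simp only [t, Set.mem_range, Finset.mem_coe]
    exact ⟨fun ⟨i, hi⟩ => hi ▸ (s.equivFin.symm i).2, fun hx => ⟨s.equivFin ⟨x, hx⟩, by simp⟩⟩
  -- the normal ring `A_f[X]`
  let A₁ := Localization.Away f
  have hfnd : Submonoid.powers f ≤ nonZeroDivisors A :=
    Submonoid.powers_le.mpr (mem_nonZeroDivisors_of_ne_zero hf0)
  have : IsDomain A₁ := IsLocalization.isDomain_of_le_nonZeroDivisors (S := A₁) hfnd
  have : IsNoetherianRing A₁ := IsLocalization.isNoetherianRing (Submonoid.powers f) A₁ inferInstance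
  have : IsIntegrallyClosed A₁ := by
    refine (isIntegrallyClosed_localization_iff (Submonoid.powers f) hfnd A₁ K).mpr fun z hz => ?_
    let D : Ideal A := (1 : Submodule A K).comap (LinearMap.toSpanSingleton A K z)
    have hrad : f ∈ D.radical := by
      rw [Ideal.radical_eq_sInf, Ideal.mem_sInf]
      rintro Q ⟨hDQ, hQ⟩
      by_contra hfQ
      obtain ⟨t, ht, htz⟩ := (mem_norLocus_iff_normalAt K ⟨Q, hQ⟩).mp (hf ⟨Q, hQ⟩ hfQ) z hz
      exact ht (hDQ (by simpa [D] using htz))
    obtain ⟨k, hk⟩ := hrad
    exact ⟨f ^ k, ⟨k, rfl⟩, by simpa [D] using hk⟩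
  have hu1 : ∀ y : Submonoid.powers f, IsUnit (algebraMap A K y) := fun y =>
    IsLocalization.map_units K (⟨y, hfnd y.2⟩ : nonZeroDivisors A)
  let : Algebra A₁ K := (IsLocalization.lift hu1).toAlgebra
  have : IsScalarTower A A₁ K := .of_algebraMap_eq fun r => (IsLocalization.lift_eq hu1 r).symm
  have : IsFractionRing A₁ K :=
    IsFractionRing.isFractionRing_of_isDomain_of_isLocalization (Submonoid.powers f) A₁ K
  let : Algebra A₁ K' := ((algebraMap K K').comp (algebraMap A₁ K)).toAlgebra
  have : IsScalarTower A₁ K K' := .of_algebraMap_eq fun _ => rfl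
  have : IsScalarTower A A₁ K' := .of_algebraMap_eq fun r => by
    rw [IsScalarTower.algebraMap_apply A K K', IsScalarTower.algebraMap_apply A A₁ K]; rfl
  let P := MvPolynomial (Fin n) A₁
  have : IsIntegrallyClosed P := AICPoint.isIntegrallyClosed_mvPolynomial A₁ n
  have : IsScalarTower A₁ K₀ K' := .of_algebraMap_eq fun _ => rfl
  let φ : P →ₐ[A₁] K₀ := MvPolynomial.aeval fun i =>
    ⟨t i, IntermediateField.subset_adjoin K _ (hrange ▸ ⟨i, rfl⟩)⟩
  let : Algebra P K₀ := φ.toRingHom.toAlgebra
  let : Algebra P K' := ((algebraMap K₀ K').comp φ.toRingHom).toAlgebra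
  have : IsScalarTower P K₀ K' := .of_algebraMap_eq fun _ => rfl
  have hPK : ∀ p : P, algebraMap P K' p =
      MvPolynomial.aeval t (MvPolynomial.map (algebraMap A₁ K) p) := fun p => by
    rw [MvPolynomial.aeval_map_algebraMap]
    change algebraMap K₀ K' (φ p) = _
    rw [← MvPolynomial.aeval_algebraMap_apply]
    rfl
  have hPinj : Function.Injective (algebraMap P K') := fun p q h => by
    rw [hPK, hPK] at h
    exact MvPolynomial.map_injective _ (IsFractionRing.injective A₁ K) (ht h)
  have hfrac : IsFractionRing P K₀ := by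
    have : FaithfulSMul P K₀ := (faithfulSMul_iff_algebraMap_injective P K₀).mpr fun p q h =>
      hPinj (congrArg (algebraMap K₀ K') h)
    refine IsFractionRing.of_field P K₀ fun z => ?_
    have hclear : ∀ r : MvPolynomial (Fin n) K, ∃ (a : A₁) (r' : P), a ≠ 0 ∧
        algebraMap A₁ K' a * MvPolynomial.aeval t r = algebraMap P K' r' := by
      intro r
      induction r using MvPolynomial.induction_on with
      | C c =>
        obtain ⟨x, y, hy, rfl⟩ := IsFractionRing.div_surjective (A := A₁) c
        refine ⟨y, MvPolynomial.C x, nonZeroDivisors.ne_zero hy, ?_⟩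
        rw [hPK, MvPolynomial.map_C, MvPolynomial.aeval_C, MvPolynomial.aeval_C,
          IsScalarTower.algebraMap_apply A₁ K K', ← map_mul,
          mul_div_cancel₀ _ (IsFractionRing.to_map_ne_zero_of_mem_nonZeroDivisors hy)]
      | add p q hp hq =>
        obtain ⟨a, p', ha, hp'⟩ := hp
        obtain ⟨b, q', hb, hq'⟩ := hq
        refine ⟨a * b, MvPolynomial.C b * p' + MvPolynomial.C a * q', mul_ne_zero ha hb, ?_⟩
        rw [map_add, map_mul, map_add (algebraMap P K'), map_mul (algebraMap P K'),
          map_mul (algebraMap P K'), ← hp', ← hq', hPK (MvPolynomial.C a), hPK (MvPolynomial.C b)]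
        simp [← IsScalarTower.algebraMap_apply]
        ring
      | mul_X p i hp =>
        obtain ⟨a, p', ha, hp'⟩ := hp
        refine ⟨a, p' * MvPolynomial.X i, ha, ?_⟩
        rw [map_mul, map_mul (algebraMap P K'), ← hp', hPK (MvPolynomial.X i)]
        simp [mul_assoc]
    have hz : (z : K') ∈ IntermediateField.adjoin K (Set.range t) := hrange.symm ▸ z.2
    obtain ⟨r, q, hrq⟩ := (IntermediateField.mem_adjoin_range_iff K t _).mp hz
    obtain ⟨a, r', ha, hr'⟩ := hclear r
    obtain ⟨b, q', hb, hq'⟩ := hclear q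
    refine ⟨MvPolynomial.C b * r', MvPolynomial.C a * q', Subtype.ext ?_⟩
    have ha' : algebraMap A₁ K' a ≠ 0 := by
      rw [IsScalarTower.algebraMap_apply A₁ K K']
      exact (map_ne_zero_iff _ (algebraMap K K').injective).mpr
        ((map_ne_zero_iff _ (IsFractionRing.injective A₁ K)).mpr ha)
    have hb' : algebraMap A₁ K' b ≠ 0 := by
      rw [IsScalarTower.algebraMap_apply A₁ K K']
      exact (map_ne_zero_iff _ (algebraMap K K').injective).mpr
        ((map_ne_zero_iff _ (IsFractionRing.injective A₁ K)).mpr hb)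
    change (z : K') = algebraMap P K' (MvPolynomial.C b * r') / algebraMap P K' (MvPolynomial.C a * q')
    rw [map_mul, map_mul, ← hr', ← hq', hPK (MvPolynomial.C a), hPK (MvPolynomial.C b), hrq]
    simp only [MvPolynomial.map_C, MvPolynomial.aeval_C, ← IsScalarTower.algebraMap_apply]
    rw [← mul_assoc, ← mul_assoc, mul_comm (algebraMap A₁ K' b) (algebraMap A₁ K' a),
      mul_div_mul_left _ _ (mul_ne_zero ha' hb')]
  have : Algebra.IsAlgebraic K₀ K' := Algebra.IsSeparable.isAlgebraic K₀ K'
  have : Algebra.IsAlgebraic P K' := (IsFractionRing.comap_isAlgebraic_iff (A := P) (K := K₀)).mpr inferInstance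
  -- generators of `A'` become integral after inverting one element
  obtain ⟨G, hG⟩ := (Algebra.FiniteType.out : (⊤ : Subalgebra A A').FG)
  have hc : ∀ y : A', ∃ c : P, c ≠ 0 ∧ IsIntegral P (c • algebraMap A' K' y) := fun y =>
    (Algebra.IsAlgebraic.isAlgebraic (R := P) (algebraMap A' K' y)).exists_integral_multiple
  choose c hc0 hcint using hc
  let C : P := ∏ y ∈ G, c y
  have hC0 : C ≠ 0 := Finset.prod_ne_zero_iff.mpr fun y _ => hc0 y
  have hCnd : Submonoid.powers C ≤ nonZeroDivisors P :=
    Submonoid.powers_le.mpr (mem_nonZeroDivisors_of_ne_zero hC0)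
  let B := Localization.Away C
  have : IsDomain B := IsLocalization.isDomain_of_le_nonZeroDivisors (S := B) hCnd
  have : IsNoetherianRing B := IsLocalization.isNoetherianRing (Submonoid.powers C) B inferInstance
  have : IsIntegrallyClosed B := isIntegrallyClosed_of_isLocalization B (Submonoid.powers C) hCnd
  have hu2 : ∀ y : Submonoid.powers C, IsUnit (algebraMap P K₀ y) := fun y =>
    IsLocalization.map_units K₀ (⟨y, hCnd y.2⟩ : nonZeroDivisors P)
  let : Algebra B K₀ := (IsLocalization.lift hu2).toAlgebra
  have : IsScalarTower P B K₀ := .of_algebraMap_eq fun r => (IsLocalization.lift_eq hu2 r).symm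
  have : IsFractionRing B K₀ :=
    IsFractionRing.isFractionRing_of_isDomain_of_isLocalization (Submonoid.powers C) B K₀
  let : Algebra B K' := ((algebraMap K₀ K').comp (algebraMap B K₀)).toAlgebra
  have : IsScalarTower B K₀ K' := .of_algebraMap_eq fun _ => rfl
  have : IsScalarTower P B K' := .of_algebraMap_eq fun r => by
    rw [IsScalarTower.algebraMap_apply P K₀ K', IsScalarTower.algebraMap_apply P B K₀]; rfl
  have : FiniteDimensional K₀ K' := by
    have : Algebra.EssFiniteType K₀ K' := Algebra.EssFiniteType.of_comp K K₀ K'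
    exact Algebra.finite_of_essFiniteType_of_isAlgebraic
  have hBfin : Module.Finite B (integralClosure B K') := IsIntegralClosure.finite B K₀ K' _
  have hA'int : ∀ y : A', IsIntegral B (algebraMap A' K' y) := by
    intro y
    have hy : y ∈ Algebra.adjoin A (G : Set A') := hG ▸ Algebra.mem_top
    induction hy using Algebra.adjoin_induction with
    | mem y hy =>
      obtain ⟨e, he⟩ := Finset.dvd_prod_of_mem c (Finset.mem_coe.mp hy)
      have h1 : IsIntegral B (algebraMap P K' C * algebraMap A' K' y) := by
        have h2 := (hcint y).smul e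
        rw [smul_smul, mul_comm e, ← he, Algebra.smul_def] at h2
        exact h2.tower_top
      have hu : IsUnit (algebraMap P B C) :=
        IsLocalization.map_units B (⟨C, Submonoid.mem_powers C⟩ : Submonoid.powers C)
      obtain ⟨v, hv⟩ := hu.exists_left_inv
      have h3 := h1.smul v
      rwa [Algebra.smul_def, IsScalarTower.algebraMap_apply P B K', ← mul_assoc, ← map_mul, hv,
        map_one, one_mul] at h3
    | algebraMap a =>
      rw [← IsScalarTower.algebraMap_apply A A' K', IsScalarTower.algebraMap_apply A A₁ K',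
        show algebraMap A₁ K' (algebraMap A A₁ a) =
          algebraMap B K' (algebraMap P B (MvPolynomial.C (algebraMap A A₁ a))) by
          rw [← IsScalarTower.algebraMap_apply P B K', hPK]
          simp [← IsScalarTower.algebraMap_apply]]
      exact isIntegral_algebraMap
    | add a b _ _ ha hb => rw [map_add]; exact ha.add hb
    | mul a b _ _ ha hb => rw [map_mul]; exact ha.mul hb
  -- denominators
  obtain ⟨d, hd⟩ := IsLocalization.exist_integer_multiples (nonZeroDivisors A') Finset.univ t
  let u₁ : A' := algebraMap A A' f * d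
  have hfK : algebraMap A K' f ≠ 0 := by
    rw [IsScalarTower.algebraMap_apply A K K']
    exact (map_ne_zero_iff _ (algebraMap K K').injective).mpr
      ((map_ne_zero_iff _ (IsFractionRing.injective A K)).mpr hf0)
  have hu10 : algebraMap A' K' u₁ ≠ 0 := by
    rw [map_mul, ← IsScalarTower.algebraMap_apply]
    exact mul_ne_zero hfK (IsFractionRing.to_map_ne_zero_of_mem_nonZeroDivisors d.2)
  have hone : ∀ w : K', w ∈ (1 : Submodule A' K') ↔ ∃ a, algebraMap A' K' a = w := fun w =>
    Submodule.mem_one
  let R : ∀ u : A', Subring K' := fun u =>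
    { carrier := {w | ∃ k : ℕ, ∃ a : A', algebraMap A' K' (u ^ k) * w = algebraMap A' K' a}
      one_mem' := ⟨0, 1, by simp⟩
      zero_mem' := ⟨0, 0, by simp⟩
      neg_mem' := fun {w} ⟨k, a, h⟩ => ⟨k, -a, by rw [mul_neg, h, map_neg]⟩
      mul_mem' := fun {w w'} ⟨k, a, h⟩ ⟨k', a', h'⟩ => ⟨k + k', a * a', by
        rw [pow_add, map_mul, map_mul, ← h, ← h']; ring⟩
      add_mem' := fun {w w'} ⟨k, a, h⟩ ⟨k', a', h'⟩ => ⟨k + k', u ^ k' * a + u ^ k * a', by
        rw [pow_add, map_mul, map_add, map_mul, map_mul, ← h, ← h']; ring⟩ }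
  have hRmono : ∀ u v : A', R u ≤ R (u * v) := fun u v w ⟨k, a, h⟩ => ⟨k, v ^ k * a, by
    rw [mul_pow, map_mul, map_mul, ← h]; ring⟩
  have hP : ∀ p : P, algebraMap P K' p ∈ R u₁ := by
    intro p
    induction p using MvPolynomial.induction_on with
    | C a =>
      obtain ⟨x, ⟨_, j, rfl⟩, rfl⟩ := IsLocalization.exists_mk'_eq (Submonoid.powers f) a
      refine ⟨j, (d : A') ^ j * algebraMap A A' x, ?_⟩
      have h1 : algebraMap P K' (MvPolynomial.C (IsLocalization.mk' A₁ x (⟨f ^ j, j, rfl⟩ : Submonoid.powers f))) *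
          algebraMap A K' (f ^ j) = algebraMap A K' x := by
        rw [hPK, MvPolynomial.map_C, MvPolynomial.aeval_C, ← IsScalarTower.algebraMap_apply,
          IsScalarTower.algebraMap_apply A A₁ K' (f ^ j), ← map_mul, IsLocalization.mk'_spec A₁ x
            (⟨f ^ j, j, rfl⟩ : Submonoid.powers f), ← IsScalarTower.algebraMap_apply]
      simp only [u₁, mul_pow, map_mul, map_pow, ← IsScalarTower.algebraMap_apply] at h1 ⊢
      rw [← h1]; ring
    | add p q hp hq => rw [map_add]; exact add_mem hp hq
    | mul_X p i hp =>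
      rw [map_mul]
      refine mul_mem hp ?_
      obtain ⟨a, ha⟩ := hd i (Finset.mem_univ i)
      refine ⟨1, algebraMap A A' f * a, ?_⟩
      rw [hPK, MvPolynomial.map_X, MvPolynomial.aeval_X, map_mul, pow_one, map_mul, ha,
        Algebra.smul_def]
      ring
  obtain ⟨kC, aC, haC⟩ := hP C
  have haC0 : aC ≠ 0 := fun h0 => by
    rw [h0, map_zero, map_pow, mul_eq_zero] at haC
    rcases haC with h | h
    · exact hu10 (pow_eq_zero_iff'.mp h).1
    · exact hC0 (hPinj (h.trans (map_zero _).symm))
  let u := u₁ * aC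
  have hB : ∀ b : B, algebraMap B K' b ∈ R u := by
    intro b
    obtain ⟨p, ⟨_, j, rfl⟩, rfl⟩ := IsLocalization.exists_mk'_eq (Submonoid.powers C) b
    obtain ⟨k, a, ha⟩ := hRmono u₁ aC (hP p)
    have h1 : algebraMap B K' (IsLocalization.mk' B p (⟨C ^ j, j, rfl⟩ : Submonoid.powers C)) *
        algebraMap P K' (C ^ j) = algebraMap P K' p := by
      rw [IsScalarTower.algebraMap_apply P B K' (C ^ j), ← map_mul, IsLocalization.mk'_spec B p
        (⟨C ^ j, j, rfl⟩ : Submonoid.powers C), ← IsScalarTower.algebraMap_apply]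
    have hCne : algebraMap P K' (C ^ j) ≠ 0 := fun h =>
      pow_ne_zero j hC0 (hPinj (h.trans (map_zero _).symm))
    refine ⟨k + j, a * u₁ ^ (kC * j) * u₁ ^ j, mul_right_cancel₀ hCne ?_⟩
    rw [mul_assoc, h1]
    simp only [u, mul_pow, pow_add, map_mul, map_pow] at ha haC ⊢
    rw [← haC] at ha ⊢
    linear_combination (algebraMap A' K' u₁ ^ j *
      (algebraMap A' K' u₁ ^ kC * algebraMap P K' C) ^ j) * ha
  obtain ⟨T, hT⟩ : (integralClosure B K').toSubmodule.FG := Module.Finite.iff_fg.mp hBfin
  obtain ⟨h, hh⟩ := IsLocalization.exist_integer_multiples (nonZeroDivisors A') T id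
  have hu0 : u ≠ 0 := fun h0 => by
    have h1 := congrArg (algebraMap A' K') h0
    rw [map_mul, map_zero, mul_eq_zero] at h1
    exact h1.elim hu10 fun h2 => haC0 (IsFractionRing.injective A' K' (h2.trans (map_zero _).symm))
  refine ⟨u * h, mul_ne_zero hu0 (nonZeroDivisors.coe_ne_zero h), fun p hp => ?_⟩
  refine (mem_norLocus_iff_normalAt K' p).mpr fun z hz => ?_
  have hzB : IsIntegral B z := by
    let S := integralClosure B K'
    let ι : A' →+* S := (algebraMap A' K').codRestrict S.toSubring fun y => hA'int y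
    let : Algebra A' S := ι.toAlgebra
    have : IsScalarTower A' S K' := .of_algebraMap_eq fun _ => rfl
    exact isIntegral_trans (R := B) (A := S) z hz.tower_top
  have hzT : z ∈ Submodule.span B (T : Set K') := hT.symm ▸ hzB
  have hzR : algebraMap A' K' h * z ∈ R u := by
    clear hzB hz
    induction hzT using Submodule.span_induction with
    | mem y hy =>
      obtain ⟨a, ha⟩ := hh y hy
      exact ⟨0, a, by rw [pow_zero, map_one, one_mul, ha, Algebra.smul_def]; rfl⟩
    | zero => rw [mul_zero]; exact zero_mem _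
    | add a b _ _ ia ib => rw [mul_add]; exact add_mem ia ib
    | smul b a _ ia =>
      rw [Algebra.smul_def, mul_left_comm]
      exact mul_mem (hB b) ia
  obtain ⟨k, a, ha⟩ := hzR
  have hup : u ∉ p.asIdeal := fun hm => hp (Ideal.mul_mem_right _ _ hm)
  have hhp : (h : A') ∉ p.asIdeal := fun hm => hp (Ideal.mul_mem_left _ _ hm)
  refine ⟨u ^ k * h, fun hm => (p.2.mem_or_mem hm).elim (fun h' => hup (p.2.mem_of_pow_mem k h')) hhp, ?_⟩
  rw [Submodule.mem_one]
  exact ⟨a, by rw [Algebra.smul_def, map_mul, mul_assoc]; exact ha.symm⟩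

end Groth.Agent.NormalLocus
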